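import Groth.Agent.L13.Nagata.CommonMany
import Groth.Agent.L19.LocImm.Common
import Groth.Agent.L19.LocImm.Glue

/-!
# A common open model for finitely many localizing immersions
-/

set_option autoImplicit false
set_option linter.style.haveILetI false
set_option backward.isDefEq.respectTransparency.types false
set_option backward.isDefEq.respectTransparency false

universe u

open CategoryTheory CategoryTheory.Limits AlgebraicGeometry TopologicalSpace

noncomputable section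

namespace Groth.L13.LocImm

variable {U S : Scheme.{u}}

/-- A localizing immersion is dense in an open neighbourhood of its image. -/
theorem exists_open_dense {Y : Scheme.{u}} [IsNoetherian Y] (h : U ⟶ Y) (hh : _root_.LocImm.IsLocImmersion h) :
    ∃ O : Y.Opens, Set.range h ⊆ (O : Set Y) ∧ (O : Set Y) ⊆ closure (Set.range h) := by
  refine ⟨⟨interior (closure (Set.range h)), isOpen_interior⟩, ?_, interior_subset⟩
  obtain ⟨Ss, hSf, hSc, hSi, hS⟩ := NoetherianSpace.exists_finite_set_isClosed_irreducible (isClosed_univ (X := Y))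
  let bad := {Z ∈ Ss | ¬ Z ⊆ closure (Set.range h)}
  intro y hy
  have hb : IsClosed (⋃ Z ∈ bad, Z) := (hSf.subset fun Z hZ => hZ.1).isClosed_biUnion fun Z hZ => hSc Z hZ.1
  refine mem_interior.2 ⟨(⋃ Z ∈ bad, Z)ᶜ, fun z hz => ?_, hb.isOpen_compl, fun hyb => ?_⟩
  · obtain ⟨Z, hZ, hzZ⟩ : z ∈ ⋃₀ Ss := hS ▸ Set.mem_univ z
    by_contra hn
    exact hz (Set.mem_biUnion ⟨hZ, fun hZs => hn (hZs hzZ)⟩ hzZ)
  · obtain ⟨Z, hZ, hyZ⟩ := Set.mem_iUnion₂.1 hyb
    obtain ⟨η, hη⟩ := QuasiSober.sober (hSi Z hZ.1) (hSc Z hZ.1)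
    have hηr : η ∈ Set.range h := Groth.L19.LocImm.stableUnderGeneralization_range hh (hη.specializes hyZ) hy
    refine hZ.2 (hη.def.symm.subset.trans ?_)
    exact closure_mono (Set.singleton_subset_iff.2 hηr)

/-- Finitely many localizing immersions over `S` share a dense open model. -/
theorem exists_common_many [IsNoetherian U] [IsNoetherian S] {n : ℕ} (Y : Fin (n + 1) → Scheme.{u})
    [∀ i, IsNoetherian (Y i)] (p : ∀ i, Y i ⟶ S) [∀ i, IsSeparated (p i)] [∀ i, LocallyOfFiniteType (p i)]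
    (h : ∀ i, U ⟶ Y i) (hh : ∀ i, _root_.LocImm.IsLocImmersion (h i))
    (heq : ∀ i, h i ≫ p i = h 0 ≫ p 0) :
    ∃ (W : Scheme.{u}) (_ : IsNoetherian W) (k : U ⟶ W) (gW : W ⟶ S) (j : ∀ i, W ⟶ Y i),
      _root_.LocImm.IsLocImmersion k ∧ DenseRange k ∧
      ∀ i, IsOpenImmersion (j i) ∧ j i ≫ p i = gW ∧ k ≫ j i = h i := by
  choose W k g₁ g₂ hk hg₁ hg₂ hg e₁ e₂ using fun i =>
    Groth.L19.LocImm.exists_common (h 0) (h i) (p 0) (p i) (hh 0) (hh i) (heq i).symm
  obtain ⟨O', hO', hO'c⟩ := exists_open_dense (h 0) (hh 0)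
  let O : (Y 0).Opens := (Finset.univ.inf fun i => (g₁ i).opensRange) ⊓ O'
  have hr : Set.range (h 0) ⊆ (O : Set (Y 0)) := by
    rintro _ ⟨x, rfl⟩
    refine ⟨?_, hO' ⟨x, rfl⟩⟩
    show h 0 x ∈ ((Finset.univ.inf fun i => (g₁ i).opensRange : (Y 0).Opens) : Set (Y 0))
    rw [Opens.coe_finset_inf]
    simp only [Finset.inf_set_eq_iInter, Set.mem_iInter]
    intro i _
    exact ⟨k i x, by rw [← Scheme.Hom.comp_apply, e₁ i]⟩
  have hle : ∀ i, Set.range O.ι ⊆ Set.range (g₁ i) := by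
    intro i
    rw [Scheme.Opens.range_ι]
    intro y hy
    exact (Finset.inf_le (f := fun i => (g₁ i).opensRange) (Finset.mem_univ i)) hy.1
  haveI : IsNoetherian O.toScheme := Groth.L19.LocImm.isNoetherian_of_lft O.ι
  let k' : U ⟶ O.toScheme := IsOpenImmersion.lift O.ι (h 0) (by rwa [Scheme.Opens.range_ι])
  have hk' : k' ≫ O.ι = h 0 := IsOpenImmersion.lift_fac _ _ _
  have hl : ∀ i, IsOpenImmersion.lift (g₁ i) O.ι (hle i) ≫ g₁ i = O.ι := fun i => IsOpenImmersion.lift_fac _ _ _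
  refine ⟨O.toScheme, inferInstance, k', O.ι ≫ p 0, fun i => IsOpenImmersion.lift (g₁ i) O.ι (hle i) ≫ g₂ i,
    Groth.L19.LocImm.isLocImmersion_of_comp_isOpenImmersion k' O.ι (hk'.symm ▸ hh 0), ?_, fun i => ⟨?_, ?_, ?_⟩⟩
  · intro w
    rw [O.ι.isEmbedding.isInducing.closure_eq_preimage_closure_image, Set.mem_preimage, ← Set.range_comp,
      ← TopCat.coe_comp, ← Scheme.Hom.comp_base, hk']
    exact hO'c w.2.2
  · haveI := hg₁ i
    haveI := hg₂ i
    haveI : IsOpenImmersion (IsOpenImmersion.lift (g₁ i) O.ι (hle i) ≫ g₁ i) := by rw [hl i]; infer_instance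
    haveI : IsOpenImmersion (IsOpenImmersion.lift (g₁ i) O.ι (hle i)) := IsOpenImmersion.of_comp _ (g₁ i)
    infer_instance
  · rw [Category.assoc, ← hg i, reassoc_of% hl i]
  · haveI := hg₁ i
    have : k' ≫ IsOpenImmersion.lift (g₁ i) O.ι (hle i) = k i := by
      rw [← cancel_mono (g₁ i), Category.assoc, hl i, hk', e₁ i]
    rw [reassoc_of% this, e₂ i]

end Groth.L13.LocImm
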