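import Groth.Agent.L13.Nagata.Modification
import Groth.Agent.L19.LocImm.Common

/-!
# Admissible blow-ups turning a generically open immersion into an open immersion
-/

set_option autoImplicit false
set_option linter.style.haveILetI false
set_option backward.isDefEq.respectTransparency.types false
set_option backward.isDefEq.respectTransparency false

universe u

open CategoryTheory CategoryTheory.Limits AlgebraicGeometry TopologicalSpace

noncomputable section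

namespace Groth.L13.LocImm

open Groth.L13.Nagata

variable {X Y Z : Scheme.{u}}

/-- A partial section over an open is dense in the preimage once it is dense upstairs. -/
theorem preimage_le_of_dense {Y' : Scheme.{u}} (b : Y' ⟶ Y) (p : Y ⟶ Z) [IsSeparated p] (U : Y.Opens)
    [IsOpenImmersion (U.ι ≫ p)] (hd : Dense ((b ⁻¹ᵁ U : Y'.Opens) : Set Y')) :
    (b ≫ p) ⁻¹ᵁ (U.ι ≫ p).opensRange = b ⁻¹ᵁ U := by
  refine le_antisymm ?_ fun y hy => ⟨⟨b y, hy⟩, ?_⟩
  swap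
  · show (U.ι ≫ p) ⟨b y, hy⟩ = (b ≫ p) y
    simp [Scheme.Hom.comp_apply]
  let W := (b ≫ p) ⁻¹ᵁ (U.ι ≫ p).opensRange
  have hr : Set.range (W.ι ≫ b ≫ p) ⊆ Set.range (U.ι ≫ p) := by
    rintro _ ⟨w, rfl⟩
    exact w.2
  let r : W.toScheme ⟶ U.toScheme := IsOpenImmersion.lift (U.ι ≫ p) (W.ι ≫ b ≫ p) hr
  have hrp : r ≫ U.ι ≫ p = W.ι ≫ b ≫ p := IsOpenImmersion.lift_fac _ _ _
  let m : W.toScheme ⟶ pullback p p := pullback.lift (W.ι ≫ b) (r ≫ U.ι) (by simpa using hrp.symm)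
  have hcl : IsClosed (m ⁻¹' Set.range (pullback.diagonal p)) :=
    (pullback.diagonal p).isClosedEmbedding.isClosed_range.preimage m.continuous
  have hmem : W.ι ⁻¹' ((b ⁻¹ᵁ U : Y'.Opens) : Set Y') ⊆ m ⁻¹' Set.range (pullback.diagonal p) := by
    intro w hw
    let D := W.ι ⁻¹ᵁ (b ⁻¹ᵁ U)
    have hDU : Set.range (D.ι ≫ W.ι ≫ b) ⊆ Set.range U.ι := by
      rintro _ ⟨z, rfl⟩
      rw [Scheme.Opens.range_ι]
      exact z.2
    let l := IsOpenImmersion.lift U.ι (D.ι ≫ W.ι ≫ b) hDU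
    have hl : l ≫ U.ι = D.ι ≫ W.ι ≫ b := IsOpenImmersion.lift_fac _ _ _
    have hlr : l = D.ι ≫ r := by
      rw [← cancel_mono (U.ι ≫ p), Category.assoc, hrp, reassoc_of% hl]
    have hm : D.ι ≫ m = (D.ι ≫ W.ι ≫ b) ≫ pullback.diagonal p := by
      apply pullback.hom_ext
      · simp [m]
      · simp only [m, Category.assoc, pullback.lift_snd, pullback.diagonal_snd, Category.comp_id]
        rw [← hl, hlr, Category.assoc]
    refine ⟨(D.ι ≫ W.ι ≫ b) ⟨w, hw⟩, ?_⟩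
    rw [← Scheme.Hom.comp_apply, ← hm, Scheme.Hom.comp_apply]
    rfl
  intro y hy
  obtain ⟨z, hz⟩ := hcl.closure_subset_iff.2 hmem
    ((hd.preimage W.ι.isOpenEmbedding.isOpenMap) ⟨y, hy⟩)
  have h1 : z = b y := by
    have h := congrArg (pullback.fst p p) hz
    rw [← Scheme.Hom.comp_apply, ← Scheme.Hom.comp_apply, pullback.diagonal_fst, pullback.lift_fst] at h
    simpa using h
  have h2 : z = (r ⟨y, hy⟩).1 := by
    have h := congrArg (pullback.snd p p) hz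
    rw [← Scheme.Hom.comp_apply, ← Scheme.Hom.comp_apply, pullback.diagonal_snd, pullback.lift_snd] at h
    simpa using h
  show b y ∈ U
  rw [← h1, h2]
  exact (r ⟨y, hy⟩).2

/-- **Admissible blow-ups lift a generically open immersion to an open immersion.** -/
theorem exists_blowUps_openImmersion [IsNoetherian Y] [IsNoetherian Z] (p : Y ⟶ Z) [IsSeparated p]
    [LocallyOfFiniteType p] (U : Y.Opens) [IsOpenImmersion (U.ι ≫ p)] :
    ∃ (I : Y.IdealSheafData) (J : Z.IdealSheafData) (Y' Z' : Scheme.{u}) (b : Y' ⟶ Y) (c : Z' ⟶ Z) (h : Y' ⟶ Z'),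
      BlowUp.IsBlowUp b I ∧ BlowUp.IsAdmissibleFor U I ∧ BlowUp.IsBlowUp c J ∧
      BlowUp.IsFiniteTypeIdeal J ∧ (J.support : Set Z) = ((U.ι ≫ p).opensRange : Set Z)ᶜ ∧
      IsOpenImmersion h ∧ h ≫ c = b ≫ p := by
  haveI : QuasiCompact p := Groth.L19.LocImm.quasiCompact_of_noetherianSpace p
  obtain ⟨L, hL, hLs⟩ := exists_compl_ideal U (NoetherianSpace.isCompact _)
  obtain ⟨Y₁, b₁, hb₁⟩ := Groth.L13.BU.exists_isBlowUp L
  haveI := Groth.L13.BU.isProper_blowUp hb₁ hL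
  have hLadm : BlowUp.IsAdmissibleFor U L := ⟨hL, by rw [hLs]; exact disjoint_compl_left⟩
  haveI := isIso_restrict_of_admissible hb₁ hLadm.2
  have hd : Dense ((b₁ ⁻¹ᵁ U : Y₁.Opens) : Set Y₁) := by
    have := dense_compl_effCartier hb₁.1
    rwa [Scheme.IdealSheafData.support_comap, Closeds.coe_preimage, hLs, Set.preimage_compl, compl_compl] at this
  let V := (U.ι ≫ p).opensRange
  have hpre : (b₁ ≫ p) ⁻¹ᵁ V = b₁ ⁻¹ᵁ U := preimage_le_of_dense b₁ p U hd
  haveI : IsOpenImmersion ((b₁ ⁻¹ᵁ U).ι ≫ b₁ ≫ p) := by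
    rw [← morphismRestrict_ι_assoc]
    exact IsOpenImmersion.comp (b₁ ∣_ U) (U.ι ≫ p)
  haveI : IsOpenImmersion ((b₁ ≫ p) ∣_ V) := by
    haveI : IsOpenImmersion (((b₁ ≫ p) ∣_ V) ≫ V.ι) := by
      rw [morphismRestrict_ι, hpre]; infer_instance
    exact IsOpenImmersion.of_comp _ V.ι
  obtain ⟨J, Z', Y', c, b₂, h, hc, hb₂, hJ, hJs, hh, hhc⟩ :=
    exists_openImmersion_blowUps (b₁ ≫ p) V (NoetherianSpace.isCompact _)
  refine ⟨L * J.comap p, J, Y', Z', b₂ ≫ b₁, c, h,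
    isBlowUp_comp_mul hb₁ (by rwa [← Scheme.IdealSheafData.comap_comp]),
    admissible_mul hLadm (admissible_mono (admissible_comap hJ p) fun y hy => ⟨⟨y, hy⟩, ?_⟩),
    hc, hJ.1, hJs, hh, by rw [hhc, Category.assoc]⟩
  exact Scheme.Hom.comp_apply U.ι p ⟨y, hy⟩

end Groth.L13.LocImm
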