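import Groth.Agent.L13.LocImm.OpenLift
import Groth.Agent.L19.LocImm.Factor

/-!
# Admissible blow-ups for proper morphisms under a localizing immersion
-/

set_option autoImplicit false
set_option linter.style.haveILetI false
set_option backward.isDefEq.respectTransparency.types false
set_option backward.isDefEq.respectTransparency false

universe u

open CategoryTheory CategoryTheory.Limits AlgebraicGeometry TopologicalSpace

noncomputable section

namespace Groth.L13.LocImm

open Groth.L13.Nagata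

variable {U X Y Z S : Scheme.{u}}

/-- A localizing immersion missing the centre lifts to the blow-up as a localizing immersion. -/
theorem exists_lift {Y' : Scheme.{u}} {b : Y' ⟶ Y} {I : Y.IdealSheafData} (hb : BlowUp.IsBlowUp b I)
    [IsNoetherian X] (f : X ⟶ Y) (hf : _root_.LocImm.IsLocImmersion f)
    (hd : Disjoint (I.support : Set Y) (Set.range f)) :
    ∃ e : X ⟶ Y', e ≫ b = f ∧ _root_.LocImm.IsLocImmersion e := by
  haveI := Groth.L19.LocImm.flat_of_isLocalizing hf.1
  have hI : I.comap f = ⊤ :=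
    Groth.L22.Ideals.comap_eq_top I f fun x hx => Set.disjoint_left.1 hd hx ⟨x, rfl⟩
  have hp := Groth.L13.BU.isBlowUp_pullback f hb
  rw [hI] at hp
  obtain ⟨s, hs, -⟩ := hp.2 X (𝟙 X) (by rw [Scheme.IdealSheafData.comap_id]; exact Groth.L22.Ideals.isEffCartier_top)
  have hs : s ≫ pullback.fst f b = 𝟙 X := hs
  have h2 : pullback.fst f b ≫ s = 𝟙 _ := by
    refine blowUp_hom_ext hp ?_ (by rw [Category.assoc, hs, Category.comp_id, Category.id_comp])
    rw [Category.assoc, hs, Category.comp_id]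
    exact hp.1
  haveI : IsIso s := ⟨_, hs, h2⟩
  haveI : NoetherianSpace ↥(pullback f b) := (asIso s).inv.isOpenEmbedding.isInducing.noetherianSpace
  refine ⟨s ≫ pullback.snd f b, ?_,
    Groth.L19.LocImm.isLocImmersion_iso_comp s (Groth.L19.LocImm.isLocImmersion_pullback_snd f b hf)⟩
  rw [Category.assoc, ← pullback.condition, reassoc_of% hs]

/-- **A proper morphism, generically an open immersion, becomes an isomorphism after admissible blow-ups.** -/
theorem exists_blowUps_isIso [IsNoetherian Y] [IsNoetherian Z] (p : Y ⟶ Z) [IsProper p] (W : Y.Opens)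
    [IsOpenImmersion (W.ι ≫ p)] :
    ∃ (I : Y.IdealSheafData) (J : Z.IdealSheafData) (Y' Z' : Scheme.{u}) (b : Y' ⟶ Y) (c : Z' ⟶ Z) (h : Y' ⟶ Z'),
      BlowUp.IsBlowUp b I ∧ BlowUp.IsAdmissibleFor W I ∧ BlowUp.IsBlowUp c J ∧
      BlowUp.IsFiniteTypeIdeal J ∧ Disjoint (J.support : Set Z) ((W.ι ≫ p).opensRange : Set Z) ∧
      IsIso h ∧ h ≫ c = b ≫ p := by
  obtain ⟨I, J, Y', Z', b, c, h, hb, hI, hc, hJf, hJs, hh, hhc⟩ := exists_blowUps_openImmersion p W
  have hd : Disjoint (J.support : Set Z) ((W.ι ≫ p).opensRange : Set Z) := by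
    rw [hJs]; exact disjoint_compl_left
  refine ⟨I, J, Y', Z', b, c, h, hb, hI, hc, hJf, hd, ?_, hhc⟩
  haveI := Groth.L13.BU.isProper_blowUp hb hI.1
  haveI := Groth.L13.BU.isProper_blowUp hc hJf
  haveI : IsProper (h ≫ c) := by rw [hhc]; infer_instance
  haveI : IsProper h := IsProper.of_comp h c
  haveI : Surjective h := ⟨fun z => by
    have hcl : IsClosed (Set.range h) := h.isClosedMap.isClosed_range
    refine hcl.closure_subset_iff.2 (fun w hw => ?_) (dense_compl_effCartier hc.1 z)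
    rw [Scheme.IdealSheafData.support_comap, Closeds.coe_preimage, hJs, Set.preimage_compl, compl_compl] at hw
    obtain ⟨x, hx⟩ := hw
    obtain ⟨x', hx', -⟩ := surjective_over_of_admissible hb hI.2 (x := x.1) x.2
    obtain ⟨w₀, -, hu⟩ := surjective_over_of_admissible hc hd (x := c w) ⟨x, hx⟩
    refine ⟨x', (hu _ ?_).trans (hu _ rfl).symm⟩
    rw [← Scheme.Hom.comp_apply, hhc, Scheme.Hom.comp_apply, hx', ← hx, Scheme.Hom.comp_apply]
    rfl⟩
  exact (isIso_iff_isOpenImmersion_and_surjective _).2 ⟨hh, inferInstance⟩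

/-- The same around a common localizing immersion. -/
theorem exists_blowUps_isIso_of_locImmersion [IsNoetherian X] [IsNoetherian Y] [IsNoetherian Z]
    (f : X ⟶ Y) (p : Y ⟶ Z) [IsProper p] (hf : _root_.LocImm.IsLocImmersion f)
    (hfp : _root_.LocImm.IsLocImmersion (f ≫ p)) :
    ∃ (I : Y.IdealSheafData) (J : Z.IdealSheafData) (Y' Z' : Scheme.{u}) (b : Y' ⟶ Y) (c : Z' ⟶ Z) (h : Y' ⟶ Z'),
      BlowUp.IsBlowUp b I ∧ BlowUp.IsFiniteTypeIdeal I ∧ Disjoint (I.support : Set Y) (Set.range f) ∧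
      BlowUp.IsBlowUp c J ∧ BlowUp.IsFiniteTypeIdeal J ∧ Disjoint (J.support : Set Z) (Set.range (f ≫ p)) ∧
      IsIso h ∧ h ≫ c = b ≫ p := by
  haveI := Groth.L19.LocImm.locallyEssFiniteType_of_locallyOfFiniteType p
  obtain ⟨W, hW, hWl⟩ := Groth.L19.LocImm.exists_open_isLocImmersion f (f ≫ p) p hf hfp rfl
  haveI : IsNoetherian W.toScheme := Groth.L19.LocImm.isNoetherian_of_lft W.ι
  haveI := Groth.L23.lfp_of_lft_locallyNoetherian (W.ι ≫ p)
  haveI : IsOpenImmersion (W.ι ≫ p) := Groth.L19.LocImm.isOpenImmersion_of_isLocImmersion hWl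
  obtain ⟨I, J, Y', Z', b, c, h, hb, hI, hc, hJf, hJd, hh, hhc⟩ := exists_blowUps_isIso p W
  refine ⟨I, J, Y', Z', b, c, h, hb, hI.1, hI.2.mono_right hW, hc, hJf, hJd.mono_right ?_, hh, hhc⟩
  rintro _ ⟨x, rfl⟩
  refine ⟨⟨f x, hW ⟨x, rfl⟩⟩, ?_⟩
  simp only [Scheme.Hom.comp_apply]
  rfl

/-- **After an admissible blow-up a map into a proper scheme extends.** -/
theorem exists_extension [IsNoetherian X] [IsNoetherian U] (a : X ⟶ S) (b : Y ⟶ S) [IsProper b]
    (j : U ⟶ X) (hj : _root_.LocImm.IsLocImmersion j) (f : U ⟶ Y) (hjf : j ≫ a = f ≫ b) :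
    ∃ (I : X.IdealSheafData) (X' : Scheme.{u}) (c : X' ⟶ X) (e : U ⟶ X') (f' : X' ⟶ Y),
      BlowUp.IsBlowUp c I ∧ BlowUp.IsFiniteTypeIdeal I ∧ Disjoint (I.support : Set X) (Set.range j) ∧
      _root_.LocImm.IsLocImmersion e ∧ e ≫ c = j ∧ e ≫ f' = f ∧ c ≫ a = f' ≫ b := by
  haveI : IsNoetherian (pullback a b) := Groth.L19.LocImm.isNoetherian_of_lft (pullback.fst a b)
  let m := pullback.lift j f hjf
  haveI : QuasiCompact m := Groth.L19.LocImm.quasiCompact_of_noetherianSpace m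
  haveI : IsNoetherian m.image := Groth.L19.LocImm.isNoetherian_of_lft m.imageι
  let p := m.imageι ≫ pullback.fst a b
  have ep : m.toImage ≫ p = j := by simp [p, m]
  have ht : _root_.LocImm.IsLocImmersion m.toImage :=
    Groth.L19.LocImm.isLocImmersion_of_comp_injective p (ep.symm ▸ hj) (Groth.L19.LocImm.app_injective_toImage m)
  obtain ⟨I, J, G, X', β, c, h, hβ, hI, hId, hc, hJ, hJd, hh, hhc⟩ :=
    exists_blowUps_isIso_of_locImmersion m.toImage p ht (ep.symm ▸ hj)
  obtain ⟨t, htβ, htl⟩ := exists_lift hβ m.toImage ht hId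
  haveI := Groth.L13.BU.isProper_blowUp hc hJ
  haveI := Groth.L13.BU.isProper_blowUp hβ hI
  haveI : IsNoetherian G := Groth.L19.LocImm.isNoetherian_of_lft β
  refine ⟨J, X', c, t ≫ h, inv h ≫ β ≫ m.imageι ≫ pullback.snd a b, hc, hJ, ep ▸ hJd,
    Groth.L19.LocImm.isLocImmersion_comp htl (Groth.L19.LocImm.isLocImmersion_of_isOpenImmersion h), ?_, ?_, ?_⟩
  · rw [Category.assoc, hhc, reassoc_of% htβ, ep]
  · rw [Category.assoc, IsIso.hom_inv_id_assoc, reassoc_of% htβ]
    simp [m]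
  · simp only [Category.assoc]
    rw [← pullback.condition, ← Category.assoc m.imageι, show m.imageι ≫ pullback.fst a b = p from rfl,
      ← reassoc_of% hhc, IsIso.inv_hom_id_assoc]

end Groth.L13.LocImm
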